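import Cfsg.Prelude.Def_Blocks
import Mathlib.GroupTheory.Coset.Basic
import Mathlib.GroupTheory.GroupAction.Quotient
import Mathlib.GroupTheory.PGroup
import Cfsg.Agent.OddHalf.Quat.KTwoOf_m3
import Cfsg.Agent.KFacts.RgdDiag
import Cfsg.Agent.KFacts.RgdRigid
import Cfsg.Agent.KFacts.RgdFixU
import Cfsg.Agent.Nodes.NormalForm
import Mathlib.GroupTheory.FiniteAbelian.Duality
import Cfsg.Agent.H634.SdDef_m3
import Mathlib.Analysis.Complex.Polynomial.Basic
import Mathlib.RingTheory.RootsOfUnity.AlgebraicallyClosed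
import Cfsg.Agent.FastGrp
import Cfsg.Agent.Prune
set_option linter.all false

section
prune_inst 0x7f00000000000000000000000000000000000000000000000000000000000000000000000000000000000000000000000000000000000000000000000000000000000000000000000000000000000000003fffffffffffffffffffffffffffbeffbdffffffff

-- part: H150/Toral/Def
section
set_option linter.all false
open scoped Cfsg.Agent.FastGrp

/-!
# The toral lemma (S4579, task TL-1): the abstract frame

`Sys U T N` : the part of a split BN-pair (`B = U T`, `N`, `W = N / T`) which is used. `U` has odd order prime to the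
order of the abelian group `T`. The 2-elements of `T` have no common fixed point in `U`, and elements of odd order of
`N` commuting with them lie in `T`.
-/

set_option autoImplicit false

namespace Cfsg.Agent.H150.Toral

open Cfsg Subgroup

universe u

/-- The frame. -/
structure Sys {S : Type u} [Group S] (U T N : Subgroup S) : Prop where
  oddU : Odd (Nat.card U)
  cop : Nat.Coprime (Nat.card U) (Nat.card T)
  comm : ∀ a ∈ T, ∀ b ∈ T, a * b = b * a
  TN : T ≤ N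
  NT : ∀ n ∈ N, ∀ t ∈ T, n * t * n⁻¹ ∈ T
  TU : ∀ t ∈ T, ∀ u ∈ U, t * u * t⁻¹ ∈ U
  bruhat : ∀ g : S, ∃ u ∈ U, ∃ n ∈ N, ∃ v ∈ U, g = u * n * v
  uniq : ∀ n ∈ N, ∀ m ∈ N, ∀ u ∈ U, ∀ v ∈ U, m = u * n * v → n⁻¹ * m ∈ T
  fixU : ∀ u ∈ U, (∀ t ∈ T, (∃ k : ℕ, t ^ 2 ^ k = 1) → t * u = u * t) → u = 1
  fixN : ∀ n ∈ N, Odd (orderOf n) → (∀ t ∈ T, (∃ k : ℕ, t ^ 2 ^ k = 1) → t * n = n * t) → n ∈ T

/-- `ψ` is trivial on `U ∩ nUn⁻¹`. -/
def Triv {S : Type u} [Group S] (U : Subgroup S) (ψ : U →* ℂˣ) (n : S) : Prop :=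
  ∀ u : U, n⁻¹ * (u : S) * n ∈ U → ψ u = 1

/-- `ψ` is regular: `ψ` is trivial on `U ∩ nUn⁻¹` for exactly one coset `nT`. -/
def Reg {S : Type u} [Group S] (U T N : Subgroup S) (ψ : U →* ℂˣ) : Prop :=
  ∃ n₀ ∈ N, Triv U ψ n₀ ∧ ∀ n ∈ N, Triv U ψ n → n₀⁻¹ * n ∈ T

/-- `s'` is the conjugate of `s` by `n` : `s' a = s (n⁻¹ a n)`. -/
def IsConjBy {S : Type u} [Group S] (T : Subgroup S) (s s' : T →* ℂˣ) (n : S) : Prop :=
  ∀ a b : T, (b : S) = n⁻¹ * a * n → s' a = s b

/-- The orbit of `s` under `N`. -/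
def orb {S : Type u} [Group S] (T N : Subgroup S) (s : T →* ℂˣ) : Set (T →* ℂˣ) :=
  {s' | ∃ n ∈ N, IsConjBy T s s' n}

namespace Sys

variable {S : Type u} [Group S] {U T N : Subgroup S}

theorem inf (h : Sys U T N) : U ⊓ T = ⊥ := disjoint_iff.1 (disjoint_of_coprime_natCard h.cop)

theorem NT' (h : Sys U T N) {n : S} (hn : n ∈ N) {t : S} (ht : t ∈ T) : n⁻¹ * t * n ∈ T := by
  have := h.NT n⁻¹ (N.inv_mem hn) t ht
  rwa [inv_inv] at this

theorem TU' (h : Sys U T N) {t : S} (ht : t ∈ T) {u : S} (hu : u ∈ U) : t⁻¹ * u * t ∈ U := by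
  have := h.TU t⁻¹ (T.inv_mem ht) u hu
  rwa [inv_inv] at this

/-- the subgroup `B = UT` -/
def B (h : Sys U T N) : Subgroup S where
  carrier := {g | ∃ u ∈ U, ∃ t ∈ T, g = u * t}
  mul_mem' := by
    rintro _ _ ⟨u, hu, t, ht, rfl⟩ ⟨v, hv, r, hr, rfl⟩
    exact ⟨u * (t * v * t⁻¹), U.mul_mem hu (h.TU t ht v hv), t * r, T.mul_mem ht hr, by group⟩
  one_mem' := ⟨1, U.one_mem, 1, T.one_mem, by group⟩
  inv_mem' := by
    rintro _ ⟨u, hu, t, ht, rfl⟩
    exact ⟨t⁻¹ * u⁻¹ * t, h.TU' ht (U.inv_mem hu), t⁻¹, T.inv_mem ht, by group⟩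

theorem mem_B (h : Sys U T N) {g : S} : g ∈ h.B ↔ ∃ u ∈ U, ∃ t ∈ T, g = u * t := Iff.rfl

theorem U_le (h : Sys U T N) : U ≤ h.B := fun u hu => ⟨u, hu, 1, T.one_mem, by group⟩

theorem T_le (h : Sys U T N) : T ≤ h.B := fun t ht => ⟨1, U.one_mem, t, ht, by group⟩

theorem B_eq (h : Sys U T N) : h.B = U ⊔ T := by
  apply le_antisymm
  · rintro _ ⟨u, hu, t, ht, rfl⟩
    exact mul_mem (mem_sup_left hu) (mem_sup_right ht)
  · exact sup_le h.U_le h.T_le

theorem uniq_ut (h : Sys U T N) {u u' t t' : S} (hu : u ∈ U) (hu' : u' ∈ U) (ht : t ∈ T) (ht' : t' ∈ T)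
    (e : u * t = u' * t') : t = t' := by
  have h1 : t' * t⁻¹ = u'⁻¹ * u := by
    rw [mul_inv_eq_iff_eq_mul, mul_assoc, e]; group
  have h2 : t' * t⁻¹ ∈ U ⊓ T := ⟨by rw [h1]; exact U.mul_mem (U.inv_mem hu') hu, T.mul_mem ht' (T.inv_mem ht)⟩
  rw [h.inf, mem_bot, mul_inv_eq_one] at h2
  exact h2.symm

/-- the torus part of an element of `B` -/
noncomputable def pr (h : Sys U T N) (b : h.B) : T := ⟨b.2.choose_spec.2.choose, b.2.choose_spec.2.choose_spec.1⟩

theorem pr_spec (h : Sys U T N) (b : h.B) : ∃ u ∈ U, (b : S) = u * h.pr b :=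
  ⟨b.2.choose, b.2.choose_spec.1, b.2.choose_spec.2.choose_spec.2⟩

theorem pr_eq (h : Sys U T N) {b : h.B} {u : S} {t : T} (hu : u ∈ U) (e : (b : S) = u * t) : h.pr b = t := by
  obtain ⟨v, hv, e'⟩ := h.pr_spec b
  exact Subtype.ext (h.uniq_ut hv hu (h.pr b).2 t.2 (e'.symm.trans e))

/-- the projection `B → T` -/
noncomputable def proj (h : Sys U T N) : h.B →* T :=
  MonoidHom.mk' h.pr (by
    intro a b
    obtain ⟨u, hu, ea⟩ := h.pr_spec a
    obtain ⟨v, hv, eb⟩ := h.pr_spec b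
    refine h.pr_eq (U.mul_mem hu (h.TU _ (h.pr a).2 _ hv)) ?_
    push_cast
    rw [ea, eb]; group)

theorem proj_eq (h : Sys U T N) {b : h.B} {u : S} {t : T} (hu : u ∈ U) (e : (b : S) = u * t) : h.proj b = t :=
  h.pr_eq hu e

theorem proj_coe (h : Sys U T N) {b : h.B} {t : T} (e : (b : S) = t) : h.proj b = t :=
  h.proj_eq U.one_mem (by rw [e, one_mul])

theorem proj_eq_one (h : Sys U T N) {b : h.B} (hb : (b : S) ∈ U) : h.proj b = 1 :=
  h.proj_eq hb (by simp)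

theorem mem_U_of_proj (h : Sys U T N) {b : h.B} (hb : h.proj b = 1) : (b : S) ∈ U := by
  obtain ⟨u, hu, e⟩ := h.pr_spec b
  have h1 : h.pr b = 1 := hb
  rw [h1, coe_one, mul_one] at e
  rw [e]; exact hu

/-- the inflation of a linear character of `T` to `B` -/
noncomputable def lin (h : Sys U T N) (s : T →* ℂˣ) : h.B →* ℂˣ := s.comp h.proj

theorem lin_apply (h : Sys U T N) (s : T →* ℂˣ) (b : h.B) : h.lin s b = s (h.proj b) := rfl

theorem lin_eq (h : Sys U T N) (s : T →* ℂˣ) {b : h.B} {u : S} {t : T} (hu : u ∈ U) (e : (b : S) = u * t) :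
    h.lin s b = s t := by rw [lin_apply, h.proj_eq hu e]

/-- conjugates of elements of `U` which lie in `B` lie in `U` -/
theorem conj_mem_U [Finite S] (h : Sys U T N) {n u : S} (hu : u ∈ U) (hB : n⁻¹ * u * n ∈ h.B) :
    n⁻¹ * u * n ∈ U := by
  apply h.mem_U_of_proj (b := ⟨_, hB⟩)
  have h1 : u ^ Nat.card U = 1 := by
    have h2 : (⟨u, hu⟩ : U) ^ Nat.card U = 1 := pow_card_eq_one'
    exact congrArg Subtype.val h2
  have h2 : (⟨_, hB⟩ : h.B) ^ Nat.card U = 1 := by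
    apply Subtype.ext
    push_cast
    have h3 : (n⁻¹ * u * n) ^ Nat.card U = n⁻¹ * u ^ Nat.card U * n := by
      have := conj_pow (i := Nat.card U) (a := n⁻¹) (b := u)
      rwa [inv_inv] at this
    rw [h3, h1]; group
  have h3 : h.proj ⟨_, hB⟩ ^ Nat.card U = 1 := by rw [← map_pow, h2, map_one]
  have h4 : h.proj ⟨_, hB⟩ ^ Nat.card T = 1 := pow_card_eq_one'
  have h5 := orderOf_dvd_of_pow_eq_one h3
  have h6 := orderOf_dvd_of_pow_eq_one h4
  exact orderOf_eq_one_iff.1 (Nat.eq_one_of_dvd_coprimes h.cop h5 h6)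

/-- strong uniqueness in the Bruhat decomposition -/
theorem uniq' [Finite S] (h : Sys U T N) {n m u v : S} (hn : n ∈ N) (hm : m ∈ N) (hu : u ∈ U) (hv : v ∈ U)
    (e : m = u * n * v) : m = n := by
  have h1 := h.uniq n hn m hm u hu v hv e
  have h2 : n⁻¹ * u * n = (n⁻¹ * m) * v⁻¹ := by rw [e]; group
  have h3 : n⁻¹ * u * n ∈ h.B := by
    rw [h2]; exact mul_mem (h.T_le h1) (h.U_le (U.inv_mem hv))
  have h4 := h.conj_mem_U hu h3
  have h5 : n⁻¹ * m ∈ U ⊓ T := by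
    refine ⟨?_, h1⟩
    have h6 : n⁻¹ * m = (n⁻¹ * u * n) * v := by rw [h2]; group
    rw [h6]
    exact U.mul_mem h4 hv
  rw [h.inf, mem_bot, inv_mul_eq_one] at h5
  exact h5.symm

/-- the subgroup of the 2-elements of `T` -/
def T2 (h : Sys U T N) : Subgroup S where
  carrier := {t | t ∈ T ∧ ∃ k : ℕ, t ^ 2 ^ k = 1}
  mul_mem' := by
    rintro a b ⟨ha, k, hk⟩ ⟨hb, l, hl⟩
    refine ⟨T.mul_mem ha hb, k + l, ?_⟩
    rw [(show Commute a b from h.comm a ha b hb).mul_pow, pow_add, pow_mul, hk, one_pow, mul_comm (2 ^ k), pow_mul,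
      hl, one_pow, one_mul]
  one_mem' := ⟨T.one_mem, 0, one_pow _⟩
  inv_mem' := by
    rintro a ⟨ha, k, hk⟩
    exact ⟨T.inv_mem ha, k, by rw [inv_pow, hk, inv_one]⟩

theorem isPGroup_T2 (h : Sys U T N) : IsPGroup 2 h.T2 := by
  rintro ⟨t, ht, k, hk⟩
  exact ⟨k, Subtype.ext hk⟩

theorem fixU' (h : Sys U T N) {u : S} (hu : u ∈ U) (hc : ∀ t ∈ h.T2, t * u = u * t) : u = 1 :=
  h.fixU u hu fun t ht hk => hc t ⟨ht, hk⟩

/-- **The centralizer of `T2` lies in `N`.** -/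
theorem cent_T2 [Finite S] (h : Sys U T N) {g : S} (hg : ∀ t ∈ h.T2, t * g = g * t) : g ∈ N := by
  obtain ⟨u, hu, n, hn, v, hv, e⟩ := h.bruhat g
  have hnt : ∀ t ∈ h.T2, t * n = n * t := by
    intro t ht
    have h1 : t * n * t⁻¹ ∈ N := N.mul_mem (N.mul_mem (h.TN ht.1) hn) (N.inv_mem (h.TN ht.1))
    have h2 : t * n * t⁻¹ = ((t * u * t⁻¹)⁻¹ * u) * n * (v * (t * v * t⁻¹)⁻¹) := by
      have h3 : t * g * t⁻¹ = g := by rw [hg t ht]; group
      rw [e] at h3
      calc t * n * t⁻¹ = (t * u * t⁻¹)⁻¹ * (t * (u * n * v) * t⁻¹) * (t * v * t⁻¹)⁻¹ := by group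
        _ = (t * u * t⁻¹)⁻¹ * (u * n * v) * (t * v * t⁻¹)⁻¹ := by rw [h3]
        _ = _ := by group
    have h3 := h.uniq' hn h1 (U.mul_mem (U.inv_mem (h.TU t ht.1 u hu)) hu)
      (U.mul_mem hv (U.inv_mem (h.TU t ht.1 v hv))) h2
    rwa [mul_inv_eq_iff_eq_mul] at h3
  let K : Subgroup S := U ⊓ U.comap (MulAut.conj n⁻¹).toMonoidHom
  have hK : ∀ x, x ∈ K ↔ x ∈ U ∧ n⁻¹ * x * n ∈ U := by
    intro x
    rw [mem_inf, mem_comap]
    simp
  let X := {a : S // a ∈ U ∧ n⁻¹ * a⁻¹ * g ∈ U}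
  have hX : ∀ x : S, n⁻¹ * (u * x)⁻¹ * g = (n⁻¹ * x * n)⁻¹ * v := by
    intro x
    rw [e]; group
  let E : K ≃ X :=
    { toFun := fun x => ⟨u * x, U.mul_mem hu ((hK _).1 x.2).1, by
        rw [hX]
        exact U.mul_mem (U.inv_mem ((hK _).1 x.2).2) hv⟩
      invFun := fun a => ⟨u⁻¹ * a, (hK _).2 ⟨U.mul_mem (U.inv_mem hu) a.2.1, by
        have h1 := hX (u⁻¹ * a)
        rw [mul_inv_cancel_left] at h1
        have h2 : n⁻¹ * (u⁻¹ * (a : S)) * n = v * (n⁻¹ * (a : S)⁻¹ * g)⁻¹ := by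
          rw [h1]; group
        rw [h2]
        exact U.mul_mem hv (U.inv_mem a.2.2)⟩⟩
      left_inv := fun x => Subtype.ext (inv_mul_cancel_left _ _)
      right_inv := fun a => Subtype.ext (mul_inv_cancel_left _ _) }
  have hcard : ¬ 2 ∣ Nat.card X := by
    rw [← Nat.card_congr E]
    intro h2
    have h3 : Nat.card K ∣ Nat.card U := card_dvd_of_le inf_le_left
    have h4 := h2.trans h3
    exact (Nat.not_even_iff_odd.2 h.oddU) (even_iff_two_dvd.2 h4)
  let _ : MulAction h.T2 X :=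
    { smul := fun t a => ⟨(t : S) * a * (t : S)⁻¹, h.TU _ t.2.1 _ a.2.1, by
        have h1 : n⁻¹ * ((t : S) * a * (t : S)⁻¹)⁻¹ * g = t * (n⁻¹ * (a : S)⁻¹ * g) * (t : S)⁻¹ := by
          have h2 := hnt t t.2
          have h3 := hg t t.2
          have h4 : n⁻¹ * (t : S) = t * n⁻¹ := by
            rw [inv_mul_eq_iff_eq_mul, ← mul_assoc, ← h2]; group
          have h5 : (t : S)⁻¹ * g = g * (t : S)⁻¹ := by
            rw [inv_mul_eq_iff_eq_mul, ← mul_assoc, h3]; group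
          calc n⁻¹ * ((t : S) * a * (t : S)⁻¹)⁻¹ * g = (n⁻¹ * t) * (a : S)⁻¹ * ((t : S)⁻¹ * g) := by group
            _ = _ := by rw [h4, h5]; group
        rw [h1]
        exact h.TU _ t.2.1 _ a.2.2⟩
      one_smul := fun a => Subtype.ext (by
        change (1 : S) * (a : S) * (1 : S)⁻¹ = a
        group)
      mul_smul := fun t r a => Subtype.ext (by
        change ((t : S) * r) * (a : S) * ((t : S) * r)⁻¹ = (t : S) * ((r : S) * a * (r : S)⁻¹) * (t : S)⁻¹
        group) }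
  have hcoe : ∀ (t : h.T2) (a : X), ((t • a : X) : S) = t * a * (t : S)⁻¹ := fun _ _ => rfl
  have : Fact (Nat.Prime 2) := ⟨Nat.prime_two⟩
  obtain ⟨a, ha⟩ := h.isPGroup_T2.nonempty_fixed_point_of_prime_not_dvd_card X hcard
  have h1 : (a : S) = 1 := h.fixU' a.2.1 fun t ht => by
    have h2 := congrArg Subtype.val (ha ⟨t, ht⟩)
    rw [hcoe] at h2
    exact mul_inv_eq_iff_eq_mul.1 h2
  have h2 := a.2.2
  rw [h1, inv_one, mul_one] at h2
  have h3 : n⁻¹ * g = 1 := h.fixU' h2 fun t ht => by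
    have h4 : n⁻¹ * (t : S) = t * n⁻¹ := by
      rw [inv_mul_eq_iff_eq_mul, ← mul_assoc, ← hnt t ht]; group
    rw [← mul_assoc, ← h4, mul_assoc, hg t ht, mul_assoc]
  rw [inv_mul_eq_one] at h3
  rw [← h3]
  exact hn

/-- the elements of odd order commuting with `T2` -/
theorem cent_T2_odd [Finite S] (h : Sys U T N) {g : S} (ho : Odd (orderOf g)) (hg : ∀ t ∈ h.T2, t * g = g * t) :
    g ∈ T :=
  h.fixN g (h.cent_T2 hg) ho fun t ht hk => hg t ⟨ht, hk⟩

end Sys

end Cfsg.Agent.H150.Toral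
end

-- part: H641/Sd/Psi
section
set_option linter.all false
open scoped Cfsg.Agent.FastGrp

-- part: H641/Sd/Toral
section
/-!
# The toral hypotheses for a root group datum (S4579, task TL-3; helper641)

`R : RGD cs h p T n X`, `U = ⟨X a : a > 0⟩`, `N = NN`. `Two T` is the set of the elements of `T` of `2`-power order.

* `eq_one_of_two` : `C_U(T_2) = 1` if this holds on the simple root groups;
* `NN_eq_normalizer` : `N = N(T)`;
* `mem_T_of_odd` : an element of odd order of `N` which centralises `T_2` lies in `T`;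
* `Psi` : the characters of `U` trivial on the non-simple positive root groups and nontrivial on the simple ones;
  `psi_trivial_iff` : `ψ` is trivial on `U ∩ n U n⁻¹` for the longest coset only; `psi_stable` : stability under
  automorphisms; `psi_free` : `T` acts freely; `card_psi` : the number of elements.
-/

set_option autoImplicit false
set_option linter.unusedSectionVars false

namespace Cfsg.Agent.H641.Sd

open CoxeterSystem Cfsg.Agent.ChevalleyStructure.CoxeterGeom Cfsg.Agent.Tits.Roots Cfsg.Agent.Tits.Core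
  Cfsg.Agent.Tits.Exchange Cfsg.Agent.Tits.RootComb Cfsg.Agent.Nodes.Reps Cfsg.Agent.Nodes.Comb
  Cfsg.Agent.Nodes.BNOf Cfsg.Agent.Nodes.BNOf.RGD Cfsg.Agent.Nodes.StabComb
  Cfsg.Agent.Nodes.Bruhat Cfsg.Agent.Nodes.OppDec Cfsg.Agent.Nodes.LeviDec Cfsg.Agent.Nodes.Unique
  Cfsg.Agent.KFacts.RgdInd Cfsg.Agent.KFacts.RgdAut Cfsg.Agent.KFacts.RgdDiag Cfsg.Agent.Nodes.NormalForm

variable {I W Y : Type*} [Fintype I] [DecidableEq I] [Group W] [Group Y] {M : CoxeterMatrix I}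
  {cs : CoxeterSystem M W} {A : I → I → ℤ} {h : IsCartan M A} {p : ℕ} {T : Subgroup Y} {n : I → Y}
  {X : (I → ℤ) → Subgroup Y}

/-- The elements of `2`-power order of `T`. -/
def Two (T : Subgroup Y) : Set Y := {t | t ∈ T ∧ ∃ k : ℕ, t ^ 2 ^ k = 1}

theorem conj_mem_two {g : Y} (hg : cj g T = T) {t : Y} (ht : t ∈ Two T) : g * t * g⁻¹ ∈ Two T := by
  obtain ⟨h1, k, hk⟩ := ht
  refine ⟨?_, k, ?_⟩
  · rw [← hg]; exact conj_mem_cj.2 h1
  · rw [conj_pow, hk, mul_one, mul_inv_cancel]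

/-- No element of the simple root groups is centralised by `T_2`. -/
def FixSimple (T : Subgroup Y) (X : (I → ℤ) → Subgroup Y) : Prop :=
  ∀ i, ∀ x ∈ X (sr i), (∀ t ∈ Two T, t * x = x * t) → x = 1

section

variable (R : RGD cs h p T n X)

include R

theorem fix_root [Finite W] (hF : FixSimple T X) {z : I → ℤ} (hz : IsRoot cs h z) {x : Y} (hx : x ∈ X z)
    (hc : ∀ t ∈ Two T, t * x = x * t) : x = 1 := by
  obtain ⟨w, i, rfl⟩ := hz
  obtain ⟨g, hg⟩ := exists_rp cs R.nsys w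
  have h1 : g⁻¹ * x * g ∈ X (sr i) := by
    have := R.conj_mem' hg ((isRoot_sr cs h i).act w) hx
    rwa [← rep_mul_apply, inv_mul_cancel, map_one, Module.End.one_apply] at this
  have h2 : g⁻¹ * x * g = 1 := by
    refine hF i _ h1 fun t ht => ?_
    have h3 := hc _ (conj_mem_two (cj_T R hg) ht)
    calc t * (g⁻¹ * x * g) = g⁻¹ * ((g * t * g⁻¹) * x) * g := by group
      _ = g⁻¹ * (x * (g * t * g⁻¹)) * g := by rw [h3]
      _ = g⁻¹ * x * g * t := by group
  have h3 : x = g * (g⁻¹ * x * g) * g⁻¹ := by group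
  rw [h3, h2, mul_one, mul_inv_cancel]

/-- **`C_U(T_2) = 1`.** -/
theorem eq_one_of_two [Finite W] (hF : FixSimple T X) {u : Y} (hu : u ∈ Sup X (Pos cs h))
    (hc : ∀ t ∈ Two T, t * u = u * t) : u = 1 := by
  let f : (I → ℤ) →+ ℤ := ⟨⟨fun x => ht x, by simp only [ht, _root_.Pi.zero_apply, _root_.Finset.sum_const_zero]⟩, fun x y => ht_add x y⟩
  have h1 := cent_closed R f (S := Pos cs h) (fun x hx => ⟨hx.1, ht_pos hx.1 hx.2⟩) closed_pos
    (C := Two T) (fun t ht => ht.1) hu (Subgroup.mem_centralizer_iff.2 hc)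
  have h2 : Sup (fun x => X x ⊓ Subgroup.centralizer (Two T)) (Pos cs h) ≤ ⊥ := by
    refine Sup_le fun z hz x hx => ?_
    rw [Subgroup.mem_bot]
    exact fix_root R hF hz.1 hx.1 fun t ht => Subgroup.mem_centralizer_iff.1 hx.2 t ht
  exact (Subgroup.mem_bot).1 (h2 h1)

/-- `N_U(T) = 1`. -/
theorem eq_one_of_norm [Finite W] (hF : FixSimple T X) {u : Y} (hu : u ∈ Sup X (Pos cs h))
    (hn : ∀ t ∈ T, u * t * u⁻¹ ∈ T) : u = 1 := by
  refine eq_one_of_two R hF hu fun t ht => ?_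
  have h1 : u * t * u⁻¹ * t⁻¹ ∈ T := mul_mem (hn t ht.1) (inv_mem ht.1)
  have h2 : u * t * u⁻¹ * t⁻¹ ∈ Sup X (Pos cs h) := by
    have h3 := (Subgroup.mem_normalizer_iff.1 (R.T_le_normalizer_U ht.1) u⁻¹).1 (inv_mem hu)
    have h4 : u * t * u⁻¹ * t⁻¹ = u * (t * u⁻¹ * t⁻¹) := by group
    rw [h4]
    exact mul_mem hu h3
  have h3 : u * t * u⁻¹ * t⁻¹ = 1 := by
    have : u * t * u⁻¹ * t⁻¹ ∈ Sup X (Pos cs h) ⊓ T := ⟨h2, h1⟩
    rw [U_inf_T R] at this
    exact Subgroup.mem_bot.1 this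
  have h4 : u * t = t * u := by
    have := congrArg (· * (t * u)) h3
    simpa only [mul_assoc, _root_.inv_mul_cancel_left, _root_.inv_mul_cancel, _root_.mul_one, _root_.one_mul] using this
  exact h4.symm

/-- **`N = N(T)`.** -/
theorem NN_eq_normalizer [Finite W] (hG : GG cs h T X = ⊤) (hF : FixSimple T X) :
    Subgroup.normalizer (T : Set Y) = NN cs R.nsys := by
  apply le_antisymm
  · intro g hg
    have hgG : g ∈ GG cs h T X := by rw [hG]; exact Subgroup.mem_top _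
    obtain ⟨w, hw⟩ := (mem_GG R).1 hgG
    obtain ⟨u, hu, k, hk, v, hv, rfl⟩ := exists_normal_form R hw
    have key : ∀ t ∈ T, (∃ t' ∈ T, t' * u * t'⁻¹ = u ∧ t' * k = k * t ∧ v = t⁻¹ * v * t) := by
      intro t ht
      have h1 := (Subgroup.mem_normalizer_iff.1 hg t).1 ht
      refine ⟨_, h1, ?_⟩
      obtain ⟨t', ht'⟩ : ∃ t', t' = u * k * v * t * (u * k * v)⁻¹ := ⟨_, rfl⟩
      rw [← ht'] at h1 ⊢
      have h2 : t' * (u * k * v) = u * k * v * t := by rw [ht']; group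
      have h3 : (t' * u * t'⁻¹) * (t' * k) * v = u * (k * t) * (t⁻¹ * v * t) := by
        calc (t' * u * t'⁻¹) * (t' * k) * v = t' * (u * k * v) := by group
          _ = u * k * v * t := h2
          _ = u * (k * t) * (t⁻¹ * v * t) := by group
      have hkt' : Rp cs R.nsys w (t' * k) := by
        have := (rp_of_mem (cs := cs) (hN := R.nsys) h1).mul hk
        rwa [one_mul] at this
      have hv' : t⁻¹ * v * t ∈ Sup X (NW cs h w) := by
        have := (Subgroup.mem_normalizer_iff.1 (R.T_le_normalizer (S := NW cs h w) (fun x hx => hx.1)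
          (inv_mem ht)) v).1 hv
        rwa [inv_inv] at this
      exact normal_form_unique R ((Subgroup.mem_normalizer_iff.1 (R.T_le_normalizer_U h1) u).1 hu) hu hkt'
        (hk.mul_mem_right ht) hv hv' h3
    have hv1 : v = 1 := by
      refine eq_one_of_two R hF (Sup_mono (S := NW cs h w) (S' := Pos cs h) (fun x hx => ⟨hx.1, hx.2.1⟩) hv) fun t ht => ?_
      obtain ⟨-, -, -, -, h1⟩ := key t ht.1
      have h2 := congrArg (t * ·) h1
      simpa only [mul_assoc, _root_.mul_inv_cancel_left] using h2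
    have hu1 : u = 1 := by
      refine eq_one_of_two R hF hu fun t ht => ?_
      have h3 : k⁻¹ * t * k ∈ T := by
        have h4 : t ∈ cj k T := by rw [cj_T R hk]; exact ht.1
        exact mem_cj.1 h4
      obtain ⟨t', -, h1, h2, -⟩ := key _ h3
      have h4 : t' = t := by
        have h5 : t' * k = t * k := by rw [h2]; group
        exact mul_right_cancel h5
      rw [h4] at h1
      have h5 := congrArg (· * t) h1
      simpa only [mul_assoc, _root_.inv_mul_cancel, _root_.mul_one] using h5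
    rw [hu1, hv1, one_mul, mul_one]
    exact ⟨w, hk⟩
  · rintro g ⟨w, hw⟩
    exact hw.mem_normalizer

/-- The set of roots separated (up to sign) by `T_2`. -/
structure Sep (cs : CoxeterSystem M W) (h : IsCartan M A) (T : Subgroup Y) (X : (I → ℤ) → Subgroup Y)
    (S : Set (I → ℤ)) : Prop where
  root : ∀ x ∈ S, IsRoot cs h x
  act : ∀ x ∈ S, ∀ w, rep cs h w x ∈ S
  sep : ∀ x ∈ S, ∀ y ∈ S, (∀ t ∈ Two T, (∀ a ∈ X x, t * a = a * t) ↔ ∀ a ∈ X y, t * a = a * t) → y = x ∨ y = -x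
  span : ∀ w, (∀ x ∈ S, rep cs h w x = x) → w = 1

/-- **An element of odd order of `N` which centralises `T_2` lies in `T`.** -/
theorem mem_T_of_odd [Finite W] {S : Set (I → ℤ)} (hS : Sep cs h T X S) {g : Y} (hg : g ∈ NN cs R.nsys)
    (ho : Odd (orderOf g)) (hc : ∀ t ∈ Two T, t * g = g * t) : g ∈ T := by
  obtain ⟨w, hw⟩ := hg
  have h1 : ∀ x ∈ S, rep cs h w x = x ∨ rep cs h w x = -x := by
    intro x hx
    refine hS.sep x hx _ (hS.act x hx w) fun t ht => ?_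
    constructor
    · intro h1 a ha
      have h2 : g⁻¹ * a * g ∈ X x := by
        have := R.conj_mem' hw (hS.root _ (hS.act x hx w)) ha
        rwa [← rep_mul_apply, inv_mul_cancel, map_one, Module.End.one_apply] at this
      have h3 := h1 _ h2
      have h4 := hc t ht
      have h5 : g⁻¹ * t = t * g⁻¹ := by
        have := congrArg (fun z => g⁻¹ * z * g⁻¹) h4
        simpa only [mul_assoc, _root_.mul_inv_cancel, _root_.mul_one, _root_.inv_mul_cancel_left] using this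
      calc t * a = g * (g⁻¹ * t) * a := by group
        _ = g * (t * g⁻¹) * a := by rw [h5]
        _ = g * (t * (g⁻¹ * a * g)) * g⁻¹ := by group
        _ = g * ((g⁻¹ * a * g) * t) * g⁻¹ := by rw [h3]
        _ = a * (g * t * g⁻¹) := by group
        _ = a * t := by rw [← h4]; group
    · intro h1 a ha
      have h2 := h1 _ (R.conj_mem hw (hS.root x hx) ha)
      have h4 := hc t ht
      calc t * a = g⁻¹ * (g * t) * a := by group
        _ = g⁻¹ * (t * g) * a := by rw [h4]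
        _ = g⁻¹ * (t * (g * a * g⁻¹)) * g := by group
        _ = g⁻¹ * ((g * a * g⁻¹) * t) * g := by rw [h2]
        _ = a * (g⁻¹ * (t * g)) := by group
        _ = a * t := by rw [h4]; group
  have h2 : w * w = 1 := by
    refine hS.span _ fun x hx => ?_
    rw [rep_mul_apply]
    rcases h1 x hx with e | e
    · rw [e, e]
    · rw [e, map_neg, e, neg_neg]
  have h3 : w ^ orderOf g = 1 := by
    have h4 := rp_pow hw (orderOf g)
    rw [pow_orderOf_eq_one] at h4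
    exact R.eq_one_of_mem_B h4 (one_mem _)
  have h4 : w = 1 := by
    obtain ⟨m, hm⟩ := ho
    rw [hm, pow_succ, pow_mul, pow_two, h2, one_pow, one_mul] at h3
    exact h3
  subst h4
  exact hw.mem_of_one

end

/-! ### The characters of `U` -/

/-- The characters of `U` trivial on the non-simple positive root groups and nontrivial on the simple root groups. -/
def Psi (cs : CoxeterSystem M W) (h : IsCartan M A) (X : (I → ℤ) → Subgroup Y) :
    Set (↥(Sup X (Pos cs h)) →* ℂˣ) :=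
  {ψ | (∀ x ∈ Pos cs h, (∀ i, x ≠ sr i) → ∀ u : ↥(Sup X (Pos cs h)), (u : Y) ∈ X x → ψ u = 1) ∧
    ∀ i, ∃ u : ↥(Sup X (Pos cs h)), (u : Y) ∈ X (sr i) ∧ ψ u ≠ 1}

section

variable (R : RGD cs h p T n X)

include R

/-- **`ψ ∈ Ψ` is trivial on `U ∩ g U g⁻¹` for exactly one coset of `T`.** -/
theorem psi_trivial_iff [Finite W] {ψ : ↥(Sup X (Pos cs h)) →* ℂˣ} (hψ : ψ ∈ Psi cs h X) {w : W} {g : Y}
    (hg : Rp cs R.nsys w g) :
    (∀ u : ↥(Sup X (Pos cs h)), g⁻¹ * (u : Y) * g ∈ Sup X (Pos cs h) → ψ u = 1) ↔ w = w0 cs := by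
  constructor
  · intro h1
    by_contra hne
    obtain ⟨i, hi⟩ : ∃ i, 0 ≤ rep cs h w⁻¹ (sr i) := by
      by_contra hcon
      push Not at hcon
      apply hne
      apply eq_w0 R
      intro r hr hr0
      have h2 : r = ∑ k, r k • sr k := by
        funext j
        simp only [Finset.sum_apply, sr, Pi.single_apply, _root_.zsmul_eq_mul, _root_.Pi.mul_apply, _root_.Pi.intCast_apply, _root_.Int.cast_eq, _root_.mul_ite, _root_.mul_one, _root_.MulZeroClass.mul_zero, _root_.Finset.sum_ite_eq, _root_.Finset.mem_univ, ↓ _root_.reduceIte]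
      rw [h2, map_sum]
      refine Finset.sum_nonpos fun k _ => ?_
      rw [map_smul]
      intro j
      rw [Pi.smul_apply, smul_eq_mul]
      have h3 : rep cs h w⁻¹ (sr k) ≤ 0 := neg_nonneg.1 (((isRoot_sr cs h k).act w⁻¹).not_nonneg_iff_neg.1 (hcon k))
      exact mul_nonpos_of_nonneg_of_nonpos (hr0 k) (h3 j)
    obtain ⟨u, hu, hu1⟩ := hψ.2 i
    apply hu1
    apply h1
    exact le_Sup (S := Pos cs h) ⟨(isRoot_sr cs h i).act _, hi⟩ (R.conj_mem' hg (isRoot_sr cs h i) hu)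
  · rintro rfl u hu
    have h1 : (u : Y) = 1 := by
      refine eq_one_of_mem_U_of_mem_BN R u.2 (UN_le_BN ?_)
      rw [← cj_U R hg]
      exact mem_cj.2 hu
    have h2 : u = 1 := Subtype.ext h1
    rw [h2, map_one]

end

end Cfsg.Agent.H641.Sd
end

-- part: H641/Sd/Psi
section
/-!
# The characters `Ψ` of `U` (S4579, task TL-3; helper641)

* `psi_stable` : `Ψ` is stable under the automorphisms normalising `U` and `T`;
* `psi_free` : `T` acts freely on `Ψ`;
* `card_psi` : `|Ψ| = ∏ (|X_i| - 1)`;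
* `card_orbits` : `#orbits * |T| = |Ψ|`.
-/

set_option autoImplicit false
set_option linter.unusedSectionVars false

namespace Cfsg.Agent.H641.Sd

open CoxeterSystem Cfsg.Agent.ChevalleyStructure.CoxeterGeom Cfsg.Agent.Tits.Roots Cfsg.Agent.Tits.Core
  Cfsg.Agent.Tits.Exchange Cfsg.Agent.Tits.RootComb Cfsg.Agent.Nodes.Reps Cfsg.Agent.Nodes.Comb
  Cfsg.Agent.Nodes.BNOf Cfsg.Agent.Nodes.BNOf.RGD Cfsg.Agent.Nodes.StabComb
  Cfsg.Agent.Nodes.Bruhat Cfsg.Agent.Nodes.OppDec Cfsg.Agent.Nodes.LeviDec Cfsg.Agent.Nodes.Unique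
  Cfsg.Agent.KFacts.RgdInd Cfsg.Agent.KFacts.RgdAut Cfsg.Agent.KFacts.RgdDiag Cfsg.Agent.Nodes.NormalForm
  Cfsg.Agent.KFacts.RgdFixU

variable {I W Y : Type*} [Fintype I] [DecidableEq I] [Group W] [Group Y] {M : CoxeterMatrix I}
  {cs : CoxeterSystem M W} {A : I → I → ℤ} {h : IsCartan M A} {p : ℕ} {T : Subgroup Y} {n : I → Y}
  {X : (I → ℤ) → Subgroup Y}

/-- In a finite group a stable subgroup is fixed. -/
theorem fix_of_le [Finite Y] {α : MulAut Y} {H : Subgroup Y} (hα : ∀ x ∈ H, α x ∈ H) : _root_.Cfsg.Agent.KFacts.RgdAut.Fix α H := by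
  have h1 : Function.Injective (fun x : H => (⟨α x, hα x x.2⟩ : H)) := by
    intro x y hxy
    exact Subtype.ext (α.injective (congrArg Subtype.val hxy))
  have h2 := Finite.injective_iff_surjective.1 h1
  intro x
  refine ⟨fun hx => ?_, hα x⟩
  obtain ⟨y, hy⟩ := h2 ⟨α x, hx⟩
  have h3 : (y : Y) = x := α.injective (congrArg Subtype.val hy)
  rw [← h3]; exact y.2

section

variable (R : RGD cs h p T n X)

include R

theorem sr_mem_Pos (i : I) : sr i ∈ Pos cs h := ⟨isRoot_sr cs h i, sr_nonneg i⟩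

/-- **Automorphisms fixing `U` and `T` permute the simple root groups.** -/
theorem exists_diag_of_fix [Finite W] [Finite Y] (hG : GG cs h T X = ⊤) (hF : FixSimple T X) {α : MulAut Y}
    (hU : ∀ u ∈ Sup X (Pos cs h), α u ∈ Sup X (Pos cs h)) (hT : ∀ t ∈ T, α t ∈ T) :
    ∃ σ : Equiv.Perm I, _root_.Cfsg.Agent.KFacts.RgdDiag.Diag T X α σ := by
  have fU : _root_.Cfsg.Agent.KFacts.RgdAut.Fix α (Sup X (Pos cs h)) := fix_of_le hU
  have fT : _root_.Cfsg.Agent.KFacts.RgdAut.Fix α T := fix_of_le hT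
  obtain ⟨u, hu, -, -, hUN, -, hT'⟩ := exists_frame R hG fU
  have hu1 : u = 1 := by
    refine Sd.eq_one_of_norm R hF hu fun t ht => ?_
    have h1 := (hT' (α⁻¹ t)).2 ((fT.inv t).2 ht)
    rwa [MulAut.mul_apply, MulAut.apply_inv_self, MulAut.conj_apply] at h1
  rw [hu1, map_one, one_mul] at hUN
  exact exists_diag R hG fU hUN

/-- **`Ψ` is stable.** -/
theorem psi_stable [Finite W] [Finite Y] (hG : GG cs h T X = ⊤) (hF : FixSimple T X) :
    H55.Sd.PsiStable (Sup X (Pos cs h)) T (Psi cs h X) := by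
  intro α hU hT ψ hψ ψ' he
  have fU : _root_.Cfsg.Agent.KFacts.RgdAut.Fix α (Sup X (Pos cs h)) := fix_of_le hU
  obtain ⟨σ, D⟩ := exists_diag_of_fix R hG hF hU hT
  have hσ := fun i j => D.matrix R i j
  obtain ⟨ρ, hρ1, hρ2, hρ3⟩ := D.exists_rootMap R hσ
  have hsr : ∀ i, ρ (sr i) = sr (σ i) := by
    intro i
    have := hρ2 1 i
    rwa [map_one, map_one, Module.End.one_apply, map_one, Module.End.one_apply] at this
  have hpos : ∀ x ∈ Pos cs h, ρ x ∈ Pos cs h := by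
    intro x hx
    refine ⟨(hρ1 x hx.1).1, ?_⟩
    by_contra hneg
    have h1 : ρ x ≤ 0 := neg_nonneg.1 ((hρ1 x hx.1).1.not_nonneg_iff_neg.1 hneg)
    apply X_ne_bot R hx.1
    rw [eq_bot_iff]
    intro y hy
    have h2 := ((hρ1 x hx.1).2 y).2 hy
    have h3 := eq_one_of_mem_U_of_mem_BN R ((fU y).2 (le_Sup hx hy)) (X_le_BN (hρ1 x hx.1).1 h1 h2)
    rw [Subgroup.mem_bot]
    exact (map_eq_one_iff α α.injective).1 h3
  have hns : ∀ x ∈ Pos cs h, (∀ i, x ≠ sr i) → ∀ i, ρ x ≠ sr i := by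
    intro x hx hxn i hi
    apply hxn (σ.symm i)
    apply X_injective R hx.1 (isRoot_sr cs h _)
    ext y
    rw [← (hρ1 x hx.1).2 y, ← (hρ1 _ (isRoot_sr cs h (σ.symm i))).2 y, hsr, Equiv.apply_symm_apply, hi]
  constructor
  · intro x hx hxn u hu
    rw [he u (hU u u.2)]
    exact hψ.1 (ρ x) (hpos x hx) (hns x hx hxn) _ (((hρ1 x hx.1).2 u).2 hu)
  · intro i
    obtain ⟨v, hv, hv1⟩ := hψ.2 (σ i)
    have h1 : α⁻¹ (v : Y) ∈ X (sr i) := by
      rw [← (hρ1 _ (isRoot_sr cs h i)).2, hsr, MulAut.apply_inv_self]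
      exact hv
    have h2 : α⁻¹ (v : Y) ∈ Sup X (Pos cs h) := (fU.inv v).2 v.2
    refine ⟨⟨_, h2⟩, h1, ?_⟩
    rw [he ⟨_, h2⟩ (hU _ h2)]
    have h3 : (⟨α ((⟨α⁻¹ (v : Y), h2⟩ : ↥(Sup X (Pos cs h))) : Y), hU _ h2⟩ : ↥(Sup X (Pos cs h))) = v :=
      Subtype.ext (MulAut.apply_inv_self _ _ _)
    rw [h3]
    exact hv1

/-- The conjugate of a character of `U` by an element of the torus. -/
def actT [Finite W] (t : T) (ψ : ↥(Sup X (Pos cs h)) →* ℂˣ) : ↥(Sup X (Pos cs h)) →* ℂˣ where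
  toFun u := ψ ⟨(t : Y) * u * (t : Y)⁻¹, (Subgroup.mem_normalizer_iff.1 (R.T_le_normalizer_U t.2) u).1 u.2⟩
  map_one' := by
    have : (⟨(t : Y) * ((1 : ↥(Sup X (Pos cs h))) : Y) * (t : Y)⁻¹,
        (Subgroup.mem_normalizer_iff.1 (R.T_le_normalizer_U t.2) _).1 (1 : ↥(Sup X (Pos cs h))).2⟩ :
        ↥(Sup X (Pos cs h))) = 1 := by
      apply Subtype.ext
      simp only [_root_.OneMemClass.coe_one, _root_.mul_one, _root_.mul_inv_cancel]
    rw [this, map_one]
  map_mul' a b := by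
    rw [← map_mul]
    congr 1
    apply Subtype.ext
    push_cast
    group

theorem actT_apply [Finite W] (t : T) (ψ : ↥(Sup X (Pos cs h)) →* ℂˣ) (u : ↥(Sup X (Pos cs h)))
    (hu : (t : Y) * u * (t : Y)⁻¹ ∈ Sup X (Pos cs h)) : actT R t ψ u = ψ ⟨(t : Y) * u * (t : Y)⁻¹, hu⟩ := rfl

theorem actT_one [Finite W] (ψ : ↥(Sup X (Pos cs h)) →* ℂˣ) : actT R 1 ψ = ψ := by
  ext u
  rw [actT_apply R 1 ψ u (by simp only [_root_.OneMemClass.coe_one, _root_.one_mul, _root_.inv_one, _root_.mul_one, _root_.SetLike.coe_mem])]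
  congr 2
  apply Subtype.ext
  simp

theorem actT_mul [Finite W] (s t : T) (ψ : ↥(Sup X (Pos cs h)) →* ℂˣ) : actT R s (actT R t ψ) = actT R (t * s) ψ := by
  ext u
  have h1 : ((s : Y) * u * (s : Y)⁻¹) ∈ Sup X (Pos cs h) :=
    (Subgroup.mem_normalizer_iff.1 (R.T_le_normalizer_U s.2) u).1 u.2
  have h2 : ((t : Y) * ((s : Y) * u * (s : Y)⁻¹) * (t : Y)⁻¹) ∈ Sup X (Pos cs h) :=
    (Subgroup.mem_normalizer_iff.1 (R.T_le_normalizer_U t.2) _).1 h1
  have h3 : (((t * s : T) : Y) * u * ((t * s : T) : Y)⁻¹) ∈ Sup X (Pos cs h) :=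
    (Subgroup.mem_normalizer_iff.1 (R.T_le_normalizer_U (t * s).2) u).1 u.2
  rw [actT_apply R s _ u h1, actT_apply R t ψ ⟨_, h1⟩ h2, actT_apply R (t * s) ψ u h3]
  congr 2
  apply Subtype.ext
  push_cast
  group

/-- `T` acts on `Ψ`. -/
theorem actT_mem [Finite W] (t : T) {ψ : ↥(Sup X (Pos cs h)) →* ℂˣ} (hψ : ψ ∈ Psi cs h X) :
    actT R t ψ ∈ Psi cs h X := by
  constructor
  · intro x hx hxn u hu
    refine hψ.1 x hx hxn _ ?_
    have h1 : (t : Y) * u * (t : Y)⁻¹ ∈ X x := by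
      rw [← R.tor x hx.1 t t.2]; exact conj_mem_cj.2 hu
    exact h1
  · intro i
    obtain ⟨u, hu, hu1⟩ := hψ.2 i
    have h1 : (t : Y)⁻¹ * u * (t : Y) ∈ X (sr i) := by
      have h2 : (u : Y) ∈ cj (t : Y) (X (sr i)) := by rw [R.tor _ (isRoot_sr cs h i) t t.2]; exact hu
      exact mem_cj.1 h2
    have h2 : (t : Y)⁻¹ * u * (t : Y) ∈ Sup X (Pos cs h) := le_Sup (sr_mem_Pos R i) h1
    have h3 : (t : Y) * ((t : Y)⁻¹ * u * (t : Y)) * (t : Y)⁻¹ = u := by group
    refine ⟨⟨_, h2⟩, h1, ?_⟩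
    rw [actT_apply R t ψ ⟨_, h2⟩ (by rw [h3]; exact u.2)]
    have h4 : (⟨(t : Y) * ((⟨_, h2⟩ : ↥(Sup X (Pos cs h))) : Y) * (t : Y)⁻¹, by rw [h3]; exact u.2⟩ :
        ↥(Sup X (Pos cs h))) = u := Subtype.ext h3
    rw [h4]
    exact hu1

omit R in
/-- A torus element centralising one nontrivial element of a simple root group centralises this root group. -/
def Semi (T : Subgroup Y) (X : (I → ℤ) → Subgroup Y) : Prop :=
  ∀ i, ∀ t ∈ T, ∀ x ∈ X (sr i), x ≠ 1 → t * x = x * t → ∀ y ∈ X (sr i), t * y = y * t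

omit R in
/-- The simple root groups are abelian. -/
def Ab (X : (I → ℤ) → Subgroup Y) : Prop := ∀ i, ∀ a ∈ X (sr i), ∀ b ∈ X (sr i), a * b = b * a

/-- **`T` acts freely on `Ψ`.** -/
theorem psi_free [Finite W] [Finite Y] (hG1 : Sup X {x | IsRoot cs h x} = ⊤) (hZ : Subgroup.center Y = ⊥)
    (hS : Semi T X) {ψ : ↥(Sup X (Pos cs h)) →* ℂˣ} (hψ : ψ ∈ Psi cs h X) {t : T}
    (he : actT R t ψ = ψ) : t = 1 := by
  have hc : ∀ i, ∀ y ∈ X (sr i), (t : Y) * y = y * t := by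
    intro i
    by_contra hcon
    push Not at hcon
    obtain ⟨y, hy, hne⟩ := hcon
    have h1 : ∀ x ∈ X (sr i), (t : Y) * x = x * t → x = 1 := by
      intro x hx hxt
      by_contra hx1
      exact hne (hS i t t.2 x hx hx1 hxt y hy)
    have hcj : ∀ x ∈ X (sr i), (t : Y) * x * (t : Y)⁻¹ ∈ X (sr i) := by
      intro x hx
      rw [← R.tor _ (isRoot_sr cs h i) t t.2]; exact conj_mem_cj.2 hx
    let f : X (sr i) → X (sr i) := fun x => ⟨(t : Y) * x * (t : Y)⁻¹ * (x : Y)⁻¹, mul_mem (hcj x x.2) (inv_mem x.2)⟩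
    have hf : Function.Injective f := by
      intro x y hxy
      have h2 : (t : Y) * x * (t : Y)⁻¹ * (x : Y)⁻¹ = (t : Y) * y * (t : Y)⁻¹ * (y : Y)⁻¹ :=
        congrArg Subtype.val hxy
      have h3 : (y : Y)⁻¹ * x ∈ X (sr i) := mul_mem (inv_mem y.2) x.2
      have h4 : (y : Y)⁻¹ * x = 1 := by
        apply h1 _ h3
        have h5 : (t : Y) * ((y : Y)⁻¹ * x) * (t : Y)⁻¹ = (y : Y)⁻¹ * x := by
          calc (t : Y) * ((y : Y)⁻¹ * x) * (t : Y)⁻¹
              = ((t : Y) * y * (t : Y)⁻¹)⁻¹ * ((t : Y) * x * (t : Y)⁻¹ * (x : Y)⁻¹) * x := by group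
            _ = ((t : Y) * y * (t : Y)⁻¹)⁻¹ * ((t : Y) * y * (t : Y)⁻¹ * (y : Y)⁻¹) * x := by rw [h2]
            _ = (y : Y)⁻¹ * x := by group
        exact mul_inv_eq_iff_eq_mul.1 h5
      exact Subtype.ext (inv_mul_eq_one.1 h4).symm
    have hf' := Finite.injective_iff_surjective.1 hf
    obtain ⟨v, hv, hv1⟩ := hψ.2 i
    apply hv1
    obtain ⟨x, hx⟩ := hf' ⟨v, hv⟩
    have hx' : (t : Y) * x * (t : Y)⁻¹ * (x : Y)⁻¹ = v := congrArg Subtype.val hx
    have hxU : (x : Y) ∈ Sup X (Pos cs h) := le_Sup (sr_mem_Pos R i) x.2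
    have htU : (t : Y) * x * (t : Y)⁻¹ ∈ Sup X (Pos cs h) := le_Sup (sr_mem_Pos R i) (hcj x x.2)
    have h5 : v = ⟨_, htU⟩ * (⟨_, hxU⟩ : ↥(Sup X (Pos cs h)))⁻¹ := Subtype.ext hx'.symm
    have h6 : ψ ⟨_, htU⟩ = ψ ⟨_, hxU⟩ := by
      have := DFunLike.congr_fun he (⟨_, hxU⟩ : ↥(Sup X (Pos cs h)))
      rwa [actT_apply R t ψ ⟨_, hxU⟩ htU] at this
    rw [h5, map_mul, map_inv, h6, mul_inv_cancel]
  have h1 : MulAut.conj (t : Y) = 1 := by
    refine Cfsg.Agent.KFacts.RgdRigid.eq_one_of_fix R hG1 (fix_of_le fun x hx => ?_) (fix_of_le fun x hx => ?_) fun i x hx => ?_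
    · exact (Subgroup.mem_normalizer_iff.1 (R.T_le_normalizer_U t.2) x).1 hx
    · exact (Subgroup.mem_normalizer_iff.1 (R.T_le_normalizer (S := _root_.Cfsg.Agent.Nodes.OppDec.Neg cs h) (fun x hx => hx.1) t.2) x).1 hx
    · rw [MulAut.conj_apply, hc i x hx, mul_inv_cancel_right]
  have h2 : (t : Y) ∈ Subgroup.center Y := by
    rw [Subgroup.mem_center_iff]
    intro g
    have h3 := DFunLike.congr_fun h1 g
    rw [MulAut.conj_apply, MulAut.one_apply, mul_inv_eq_iff_eq_mul] at h3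
    exact h3.symm
  rw [hZ, Subgroup.mem_bot] at h2
  exact Subtype.ext h2

/-! ### the retractions `U → X_i` -/

theorem retr_uniq [Finite W] {i : I} {a a' v v' : Y} (ha : a ∈ X (sr i)) (ha' : a' ∈ X (sr i))
    (hv : v ∈ Sup X (PosNe cs h i)) (hv' : v' ∈ Sup X (PosNe cs h i)) (e : a * v = a' * v') : a = a' := by
  have h1 : a'⁻¹ * a = v' * v⁻¹ := by
    rw [inv_mul_eq_iff_eq_mul, ← mul_assoc, ← e]; group
  have h2 := eq_one_of_mem_PosNe R (mul_mem (inv_mem ha') ha) (by rw [h1]; exact mul_mem hv' (inv_mem hv))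
  exact (inv_mul_eq_one.1 h2).symm

/-- The retraction `U → X_i` with kernel `V_i`. -/
noncomputable def retr [Finite W] (i : I) : ↥(Sup X (Pos cs h)) →* ↥(X (sr i)) :=
  MonoidHom.mk' (fun u => ⟨(exists_mul_V R i u.2).choose, (exists_mul_V R i u.2).choose_spec.1⟩) (by
    intro u u'
    obtain ⟨v, hv, hu⟩ := (exists_mul_V R i u.2).choose_spec.2
    obtain ⟨v', hv', hu'⟩ := (exists_mul_V R i u'.2).choose_spec.2
    obtain ⟨v'', hv'', hu''⟩ := (exists_mul_V R i (u * u').2).choose_spec.2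
    apply Subtype.ext
    push_cast
    set a := (exists_mul_V R i u.2).choose with ha
    set a' := (exists_mul_V R i u'.2).choose with ha'
    have ma : a ∈ X (sr i) := (exists_mul_V R i u.2).choose_spec.1
    have ma' : a' ∈ X (sr i) := (exists_mul_V R i u'.2).choose_spec.1
    have h1 : a'⁻¹ * v * a' ∈ Sup X (PosNe cs h i) := by
      have h2 := (Subgroup.mem_normalizer_iff.1 (U_le_normalizer_V R i
        (le_Sup (sr_mem_Pos R i) (inv_mem ma'))) v).1 hv
      rwa [inv_inv] at h2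
    refine retr_uniq R (exists_mul_V R i (u * u').2).choose_spec.1 (mul_mem ma ma') hv'' (mul_mem h1 hv') ?_
    have h3 : ((u * u' : ↥(Sup X (Pos cs h))) : Y) = (a * v) * (a' * v') := by
      rw [Subgroup.coe_mul, hu, hu']
    rw [← hu'', h3]
    group)

theorem retr_eq [Finite W] {i : I} {u : ↥(Sup X (Pos cs h))} {a : ↥(X (sr i))} {v : Y}
    (hv : v ∈ Sup X (PosNe cs h i)) (e : (u : Y) = a * v) : retr R i u = a := by
  obtain ⟨v', hv', hu'⟩ := (exists_mul_V R i u.2).choose_spec.2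
  apply Subtype.ext
  exact retr_uniq R (exists_mul_V R i u.2).choose_spec.1 a.2 hv' hv (hu'.symm.trans e)

theorem retr_self [Finite W] {i : I} {u : ↥(Sup X (Pos cs h))} (hu : (u : Y) ∈ X (sr i)) :
    retr R i u = ⟨u, hu⟩ := retr_eq R (one_mem _) (mul_one _).symm

theorem retr_ne [Finite W] {i : I} {u : ↥(Sup X (Pos cs h))} {x : I → ℤ} (hx : x ∈ Pos cs h) (hne : x ≠ sr i)
    (hu : (u : Y) ∈ X x) : retr R i u = 1 :=
  retr_eq R (a := 1) (le_Sup (S := PosNe cs h i) ⟨hx.1, hx.2, hne⟩ hu) (by simp only [_root_.OneMemClass.coe_one, _root_.one_mul])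

/-- A character of `U` which is trivial on all positive root groups is trivial. -/
theorem hom_ext {ψ ψ' : ↥(Sup X (Pos cs h)) →* ℂˣ}
    (he : ∀ x ∈ Pos cs h, ∀ u : ↥(Sup X (Pos cs h)), (u : Y) ∈ X x → ψ u = ψ' u) : ψ = ψ' := by
  have h1 : Sup X (Pos cs h) ≤ (ψ.eqLocus ψ').map (Subgroup.subtype _) := by
    refine Sup_le fun x hx y hy => ?_
    exact ⟨⟨y, le_Sup hx hy⟩, he x hx ⟨y, le_Sup hx hy⟩ hy, rfl⟩
  ext u
  obtain ⟨v, hv, hvu⟩ := h1 u.2
  have h2 : v = u := Subtype.ext hvu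
  rw [h2] at hv
  exact congrArg Units.val hv

/-- The characters in `Ψ` are the families of nontrivial characters of the simple root groups. -/
noncomputable def psiEquiv [Finite W] : Psi cs h X ≃ ∀ i, {χ : ↥(X (sr i)) →* ℂˣ // χ ≠ 1} where
  toFun ψ i := ⟨ψ.1.comp (Subgroup.inclusion (le_Sup (sr_mem_Pos R i))), by
    obtain ⟨u, hu, hu1⟩ := ψ.2.2 i
    intro h1
    apply hu1
    exact DFunLike.congr_fun h1 ⟨u, hu⟩⟩
  invFun χ := ⟨∏ i, (χ i).1.comp (retr R i), by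
    constructor
    · intro x hx hxn u hu
      rw [MonoidHom.finsetProd_apply]
      refine Finset.prod_eq_one fun i _ => ?_
      rw [MonoidHom.comp_apply, retr_ne R hx (hxn i) hu, map_one]
    · intro i
      obtain ⟨u, hu⟩ : ∃ u, (χ i).1 u ≠ 1 := by
        by_contra hcon
        push Not at hcon
        exact (χ i).2 (MonoidHom.ext hcon)
      refine ⟨⟨u, le_Sup (sr_mem_Pos R i) u.2⟩, u.2, ?_⟩
      rw [MonoidHom.finsetProd_apply, Finset.prod_eq_single i]
      · rw [MonoidHom.comp_apply, retr_self R (u := ⟨u, le_Sup (sr_mem_Pos R i) u.2⟩) u.2]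
        exact hu
      · intro j _ hj
        rw [MonoidHom.comp_apply, retr_ne R (sr_mem_Pos R i) (u := ⟨u, le_Sup (sr_mem_Pos R i) u.2⟩)
          (fun e => hj (Cfsg.Agent.Nodes.sr_injective e).symm) u.2, map_one]
      · intro hi
        exact absurd (Finset.mem_univ i) hi⟩
  left_inv ψ := by
    apply Subtype.ext
    apply hom_ext R
    intro x hx u hu
    change (∏ i, (ψ.1.comp (Subgroup.inclusion (le_Sup (sr_mem_Pos R i)))).comp (retr R i)) u = ψ.1 u
    rw [MonoidHom.finsetProd_apply]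
    by_cases hs : ∃ i, x = sr i
    · obtain ⟨i, rfl⟩ := hs
      rw [Finset.prod_eq_single i]
      · rw [MonoidHom.comp_apply, retr_self R hu]
        rfl
      · intro j _ hj
        rw [MonoidHom.comp_apply, retr_ne R (sr_mem_Pos R i) (fun e => hj (Cfsg.Agent.Nodes.sr_injective e).symm) hu, map_one]
      · intro hi
        exact absurd (Finset.mem_univ i) hi
    · push Not at hs
      rw [ψ.2.1 x hx hs u hu]
      refine Finset.prod_eq_one fun i _ => ?_
      rw [MonoidHom.comp_apply, retr_ne R hx (hs i) hu, map_one]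
  right_inv χ := by
    funext i
    apply Subtype.ext
    apply MonoidHom.ext
    intro u
    change (∏ j, (χ j).1.comp (retr R j)) ⟨u, le_Sup (sr_mem_Pos R i) u.2⟩ = (χ i).1 u
    rw [MonoidHom.finsetProd_apply, Finset.prod_eq_single i]
    · rw [MonoidHom.comp_apply, retr_self R (u := ⟨u, le_Sup (sr_mem_Pos R i) u.2⟩) u.2]
    · intro j _ hj
      rw [MonoidHom.comp_apply, retr_ne R (sr_mem_Pos R i) (u := ⟨u, le_Sup (sr_mem_Pos R i) u.2⟩)
        (fun e => hj (Cfsg.Agent.Nodes.sr_injective e).symm) u.2, map_one]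
    · intro hi
      exact absurd (Finset.mem_univ i) hi

omit R in
/-- the number of nontrivial characters of a finite abelian group -/
theorem card_nontrivial_hom {G : Type*} [Group G] [Finite G] (hG : ∀ a b : G, a * b = b * a) :
    Nat.card {χ : G →* ℂˣ // χ ≠ 1} = Nat.card G - 1 := by
  let _ : CommGroup G := { (inferInstance : Group G) with mul_comm := hG }
  have : Fintype (G →* ℂˣ) := Fintype.ofFinite _
  have h1 := CommGroup.card_monoidHom_of_hasEnoughRootsOfUnity G ℂ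
  classical
  rw [Nat.card_eq_fintype_card, Fintype.card_subtype_compl, Fintype.card_subtype_eq, ← Nat.card_eq_fintype_card, h1]

/-- **The number of elements of `Ψ`.** -/
theorem card_psi [Finite W] [Finite Y] (hab : Ab X) :
    Nat.card (Psi cs h X) = ∏ i, (Nat.card (X (sr i)) - 1) := by
  rw [Nat.card_congr (psiEquiv R), Nat.card_pi]
  refine Finset.prod_congr rfl fun i _ => ?_
  exact card_nontrivial_hom fun a b => Subtype.ext (hab i a a.2 b b.2)

/-! ### orbits -/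

theorem torb_eq [Finite W] (ψ : ↥(Sup X (Pos cs h)) →* ℂˣ) :
    H55.Sd.torb (Sup X (Pos cs h)) T ψ = Set.range fun t : T => actT R t ψ := by
  ext ψ'
  constructor
  · rintro ⟨t, ht, he⟩
    refine ⟨⟨t, ht⟩, ?_⟩
    ext u
    have h1 : t * (u : Y) * t⁻¹ ∈ Sup X (Pos cs h) :=
      (Subgroup.mem_normalizer_iff.1 (R.T_le_normalizer_U ht) u).1 u.2
    dsimp only
    rw [he u h1, actT_apply R ⟨t, ht⟩ ψ u h1]
  · rintro ⟨t, rfl⟩
    exact ⟨t, t.2, fun u hu => actT_apply R t ψ u hu⟩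

/-- **The number of `T`-orbits on `Ψ`.** -/
theorem card_orbits [Finite W] [Finite Y] (hG1 : Sup X {x | IsRoot cs h x} = ⊤) (hZ : Subgroup.center Y = ⊥)
    (hS : Semi T X) :
    Nat.card (H55.Sd.torb (Sup X (Pos cs h)) T '' Psi cs h X) * Nat.card T = Nat.card (Psi cs h X) := by
  have hch : ∀ o : H55.Sd.torb (Sup X (Pos cs h)) T '' Psi cs h X, ∃ ψ ∈ Psi cs h X,
      H55.Sd.torb (Sup X (Pos cs h)) T ψ = o := fun o => o.2
  choose r hr hro using hch
  rw [← Nat.card_prod]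
  refine Nat.card_congr (Equiv.ofBijective (fun q => ⟨actT R q.2 (r q.1), actT_mem R q.2 (hr q.1)⟩) ⟨?_, ?_⟩)
  · rintro ⟨o, s⟩ ⟨o', s'⟩ he
    have he' : actT R s (r o) = actT R s' (r o') := congrArg Subtype.val he
    have h1 : r o = actT R (s' * s⁻¹) (r o') := by
      have h2 := congrArg (actT R s⁻¹) he'
      rwa [actT_mul, actT_mul, mul_inv_cancel, actT_one] at h2
    have ho : o = o' := by
      apply Subtype.ext
      rw [← hro o, ← hro o', torb_eq R, torb_eq R]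
      ext ψ'
      constructor
      · rintro ⟨t, rfl⟩
        dsimp only
        rw [h1, actT_mul]
        exact ⟨_, rfl⟩
      · rintro ⟨t, rfl⟩
        have h3 : r o' = actT R (s' * s⁻¹)⁻¹ (r o) := by
          rw [h1, actT_mul, mul_inv_cancel, actT_one]
        dsimp only
        rw [h3, actT_mul]
        exact ⟨_, rfl⟩
    subst ho
    have h3 := psi_free R hG1 hZ hS (hr o) h1.symm
    have h4 : s' = s := mul_inv_eq_one.1 h3
    rw [h4]
  · rintro ⟨ψ, hψ⟩
    have h1 : ψ ∈ H55.Sd.torb (Sup X (Pos cs h)) T (r ⟨_, Set.mem_image_of_mem _ hψ⟩) := by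
      rw [hro ⟨_, Set.mem_image_of_mem _ hψ⟩]
      change ψ ∈ H55.Sd.torb (Sup X (Pos cs h)) T ψ
      rw [torb_eq R]
      exact ⟨1, actT_one R ψ⟩
    rw [torb_eq R] at h1
    obtain ⟨t, ht⟩ := h1
    exact ⟨(⟨_, Set.mem_image_of_mem _ hψ⟩, t), Subtype.ext ht⟩

/-- **An odd number of orbits.** -/
theorem odd_orbits [Finite W] [Finite Y] (hG1 : Sup X {x | IsRoot cs h x} = ⊤) (hZ : Subgroup.center Y = ⊥)
    (hab : Ab X) (hS : Semi T X) {c : ℕ} (hc : Odd c) (hT : c * Nat.card T = ∏ i, (Nat.card (X (sr i)) - 1)) :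
    Odd (Nat.card (H55.Sd.torb (Sup X (Pos cs h)) T '' Psi cs h X)) := by
  have h1 := card_orbits R hG1 hZ hS
  rw [card_psi R hab, ← hT] at h1
  rw [Nat.eq_of_mul_eq_mul_right Nat.card_pos h1]
  exact hc

/-! ### the structures of TL-1 and TL-2 -/

theorem GG_top (hG1 : Sup X {x | IsRoot cs h x} = ⊤) : GG cs h T X = ⊤ := by
  rw [eq_top_iff, ← hG1]
  exact le_sup_right

theorem B_eq : RGD.B cs h T X = Sup X (Pos cs h) ⊔ T := sup_comm _ _

/-- `U` is a Sylow subgroup. -/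
theorem index_U [Finite W] [Finite Y] (hp : p.Prime) (hG : GG cs h T X = ⊤) : ¬ p ∣ (Sup X (Pos cs h)).index := by
  have : Fact p.Prime := ⟨hp⟩
  obtain ⟨P, hP⟩ := (R.isPGroup_Upos).exists_le_sylow
  have h1 := eq_U_of_isPGroup R P.2 hP (by rw [hG]; exact le_top)
  rw [← h1]
  exact P.not_dvd_index

theorem torAut [Finite W] [Finite Y] (hp : p.Prime) (hp2 : p ≠ 2) (hG : GG cs h T X = ⊤)
    (hT : ∀ a ∈ T, ∀ b ∈ T, a * b = b * a) (hZ : Subgroup.center Y = ⊥) :
    H55.Sd.TorAut p (Sup X (Pos cs h)) T where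
  prime := hp
  odd := hp2
  isP := R.isPGroup_Upos
  index := index_U R hp hG
  norm := by rw [normalizer_U' R hG, B_eq R]
  comm := hT
  cop := by
    intro hd
    have h1 := R.tcop
    rw [Nat.coprime_comm, hp.coprime_iff_not_dvd] at h1
    exact h1 hd
  cen := hZ

theorem odd_card_U [Finite W] [Finite Y] (hp : p.Prime) (hp2 : p ≠ 2) : Odd (Nat.card ↥(Sup X (Pos cs h))) := by
  have : Fact p.Prime := ⟨hp⟩
  obtain ⟨k, hk⟩ := IsPGroup.iff_card.1 (R.isPGroup_Upos)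
  rw [hk]
  exact (hp.odd_of_ne_two hp2).pow

theorem coprime_U_T [Finite W] [Finite Y] (hp : p.Prime) :
    Nat.Coprime (Nat.card ↥(Sup X (Pos cs h))) (Nat.card T) := by
  have : Fact p.Prime := ⟨hp⟩
  obtain ⟨k, hk⟩ := IsPGroup.iff_card.1 (R.isPGroup_Upos)
  rw [hk]
  exact (Nat.Coprime.pow_left k R.tcop.symm)

/-- **The frame of TL-1.** -/
theorem sys [Finite W] [Finite Y] (hp : p.Prime) (hp2 : p ≠ 2) (hG : GG cs h T X = ⊤)
    (hT : ∀ a ∈ T, ∀ b ∈ T, a * b = b * a) (hF : FixSimple T X) {S : Set (I → ℤ)} (hS : Sep cs h T X S) :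
    H150.Toral.Sys (Sup X (Pos cs h)) T (Subgroup.normalizer (T : Set Y)) where
  oddU := odd_card_U R hp hp2
  cop := coprime_U_T R hp
  comm := hT
  TN := Subgroup.le_normalizer
  NT := fun n hn t ht => (Subgroup.mem_normalizer_iff.1 hn t).1 ht
  TU := fun t ht u hu => (Subgroup.mem_normalizer_iff.1 (R.T_le_normalizer_U ht) u).1 hu
  bruhat := by
    intro g
    have hgG : g ∈ GG cs h T X := by rw [hG]; exact Subgroup.mem_top _
    obtain ⟨w, hw⟩ := (mem_GG R).1 hgG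
    obtain ⟨u, hu, k, hk, v, hv, rfl⟩ := exists_normal_form R hw
    exact ⟨u, hu, k, hk.mem_normalizer, v,
      Sup_mono (S := NW cs h w) (S' := Pos cs h) (fun x hx => ⟨hx.1, hx.2.1⟩) hv, rfl⟩
  uniq := by
    intro k hk m hm u hu v hv e
    rw [NN_eq_normalizer R hG hF] at hk hm
    obtain ⟨w, hw⟩ := hk
    obtain ⟨w', hw'⟩ := hm
    have h1 : Cell R.nsys cs h X w m := by
      rw [e]
      exact ((cell_of_rp hw).mul_left (RGD.U_le_B hu)).mul_right (RGD.U_le_B hv)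
    have h2 := Cell.unique R h1 (cell_of_rp hw')
    rw [← h2] at hw'
    exact hw.unique hw'
  fixU := fun u hu hc => eq_one_of_two R hF hu fun t ht => hc t ht.1 ht.2
  fixN := by
    intro g hg ho hc
    rw [NN_eq_normalizer R hG hF] at hg
    exact mem_T_of_odd R hS hg ho fun t ht => hc t ht.1 ht.2

/-- **The characters in `Ψ` are regular.** -/
theorem reg [Finite W] [Finite Y] (hG : GG cs h T X = ⊤) (hF : FixSimple T X)
    {ψ : ↥(Sup X (Pos cs h)) →* ℂˣ} (hψ : ψ ∈ Psi cs h X) :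
    H150.Toral.Reg (Sup X (Pos cs h)) T (Subgroup.normalizer (T : Set Y)) ψ := by
  obtain ⟨k, hk⟩ := exists_rp cs R.nsys (w0 cs)
  refine ⟨k, hk.mem_normalizer, (psi_trivial_iff R hψ hk).2 rfl, fun m hm ht => ?_⟩
  rw [NN_eq_normalizer R hG hF] at hm
  obtain ⟨w, hw⟩ := hm
  have h1 := (psi_trivial_iff R hψ hw).1 ht
  rw [h1] at hw
  exact hk.unique hw

end

end Cfsg.Agent.H641.Sd
end

private theorem dce_d563c3cce39e : _root_.True := by
  try have : _root_.True := by simp only [_root_.Cfsg.Agent.Nodes.BNOf.RGD.Pos.congr_simp]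
  try have : _root_.True := by simp only [_root_.Cfsg.Agent.Nodes.BNOf.RGD.PosNe.congr_simp]
  try have : _root_.True := by simp only [_root_.Cfsg.Agent.Tits.Roots.ht.eq_1]
  exact _root_.True.intro
end
end
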